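import Groth.Prelude.Def_NonAbH2
import Groth.Agent.TorsorDesc.Basic
import Groth.Agent.TorsorDesc.Points
import Groth.Agent.MultHopf.HomLocus
import Groth.Agent.GaPts.Basic
import Groth.Agent.SchDescent.Cover
import Groth.Agent.FpqcDescent.Amitsur

/-!
# Torsors under the additive group have sections over affine schemes
-/

set_option autoImplicit false
set_option linter.style.haveILetI false
set_option backward.isDefEq.respectTransparency false
set_option backward.isDefEq.respectTransparency.types false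
set_option synthInstance.maxHeartbeats 400000

noncomputable section

open AlgebraicGeometry CategoryTheory CategoryTheory.Limits MonoidalCategory CartesianMonoidalCategory MonObj
open scoped TensorProduct

namespace Groth.Agent.GaTors

universe u

open TorsorDesc

section Alg

variable (R A : Type u) [CommRing R] [CommRing A] [Algebra R A] [Module.FaithfullyFlat R A]

/-- The additive Amitsur complex is exact in degree one. -/
theorem exists_of_cocycle (c : A ⊗[R] A)
    (hc : (Algebra.TensorProduct.includeRight : A ⊗[R] A →ₐ[R] A ⊗[R] (A ⊗[R] A)) c -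
        Algebra.TensorProduct.map (AlgHom.id R A) (Algebra.TensorProduct.includeRight : A →ₐ[R] A ⊗[R] A) c +
        Algebra.TensorProduct.map (AlgHom.id R A) (Algebra.TensorProduct.includeLeft : A →ₐ[R] A ⊗[R] A) c = 0) :
    ∃ b : A, (Algebra.TensorProduct.includeRight : A →ₐ[R] A ⊗[R] A) b -
      (Algebra.TensorProduct.includeLeft : A →ₐ[R] A ⊗[R] A) b = c := by
  obtain ⟨w, hw⟩ := (FpqcDescent.Amitsur.exact_amitsur_one R A R ((1 : R) ⊗ₜ[R] c)).mp (by
    simp only [LinearMap.add_apply, LinearMap.sub_apply, LinearMap.lTensor_tmul, AlgHom.toLinearMap_apply,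
      ← TensorProduct.tmul_sub, ← TensorProduct.tmul_add, hc, TensorProduct.tmul_zero])
  refine ⟨TensorProduct.lid R A w, ?_⟩
  have h := congrArg (TensorProduct.lid R (A ⊗[R] A)) hw
  rw [TensorProduct.lid_tmul, one_smul] at h
  rw [← h]
  have hn : ∀ (f : A →ₗ[R] A ⊗[R] A) (v : R ⊗[R] A), TensorProduct.lid R (A ⊗[R] A) (LinearMap.lTensor R f v) =
      f (TensorProduct.lid R A v) := fun f v => by
    induction v using TensorProduct.induction_on with
    | zero => simp
    | tmul r a => simp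
    | add x y hx hy => simp only [map_add, hx, hy]
  simp only [LinearMap.sub_apply, map_sub, hn, AlgHom.toLinearMap_apply]

end Alg

variable {S : Scheme.{u}}

/-- The coordinate of a point of `𝔾ₐ` with values in a spectrum. -/
def val {A : CommRingCat.{u}} {h : Spec A ⟶ S} (x : Over.mk h ⟶ Red.Ga S) : A :=
  (Scheme.ΓSpecIso A).hom (Red.gaFn x)

theorem val_mul {A : CommRingCat.{u}} {h : Spec A ⟶ S} (x y : Over.mk h ⟶ Red.Ga S) :
    val (x * y) = val x + val y := by
  unfold val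
  rw [GaPts.gaFn_mul]
  exact map_add _ _ _

theorem val_injective {A : CommRingCat.{u}} (h : Spec A ⟶ S) :
    Function.Injective (val : (Over.mk h ⟶ Red.Ga S) → A) := fun _ _ e =>
  GaPts.gaFn_injective _ ((Scheme.ΓSpecIso A).commRingCatIsoToRingEquiv.injective e)

theorem val_surjective {A : CommRingCat.{u}} (h : Spec A ⟶ S) :
    Function.Surjective (val : (Over.mk h ⟶ Red.Ga S) → A) := fun a => by
  obtain ⟨x, hx⟩ := GaPts.gaFn_surjective (Over.mk h) ((Scheme.ΓSpecIso A).inv a)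
  refine ⟨x, ?_⟩
  unfold val
  rw [hx, ← CategoryTheory.comp_apply, Iso.inv_hom_id]
  rfl

theorem val_comp {A A' : CommRingCat.{u}} {h : Spec A ⟶ S} {h' : Spec A' ⟶ S} (ψ : A ⟶ A')
    (w : Over.mk h' ⟶ Over.mk h) (hw : w.left = Spec.map ψ) (x : Over.mk h ⟶ Red.Ga S) :
    val (w ≫ x) = ψ (val x) := by
  unfold val
  rw [GaPts.gaFn_comp, hw]
  exact congr($(Scheme.ΓSpecIso_naturality ψ) (Red.gaFn x))

theorem div_mul_div {G X : Over S} [GrpObj G] {a : AlgGrp.Action G X} (h : NonAbH1.IsPseudoTorsorSch a)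
    {T : Over S} (p q r : T ⟶ X) : div h p q * div h q r = div h p r := by
  have e : act a (div h p q * div h q r) r = p := by rw [← act_act, act_div, act_div]
  conv_rhs => rw [← e]
  rw [div_act]

theorem isAffineHom_GaZ : IsAffineHom Red.GaZ.{u}.hom := by
  haveI : IsAffine Red.GaZ.{u}.left := isAffine_Spec _
  exact isAffineHom_of_isAffine _

theorem flat_GaZ : Flat Red.GaZ.{u}.hom := by
  change Flat (Spec.map (CommRingCat.ofHom (algebraMap (ULift.{u} ℤ) (SymmetricAlgebra (ULift.{u} ℤ) (ULift.{u} ℤ)))))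
  rw [HasRingHomProperty.Spec_iff (P := @Flat), CommRingCat.hom_ofHom, RingHom.flat_algebraMap_iff]
  infer_instance

instance isAffineHom_Ga : IsAffineHom (Red.Ga S).hom :=
  MorphismProperty.pullback_snd (P := @IsAffineHom) _ _ isAffineHom_GaZ

instance flat_Ga : Flat (Red.Ga S).hom :=
  MorphismProperty.pullback_snd (P := @Flat) _ _ flat_GaZ

theorem surjective_Ga : Surjective (Red.Ga S).hom := by
  have h : η[Red.Ga S].left ≫ (Red.Ga S).hom = 𝟙 S := Over.w η[Red.Ga S]
  refine ⟨fun s => ⟨η[Red.Ga S].left s, ?_⟩⟩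
  rw [← Scheme.Hom.comp_apply, h]
  rfl

/-- An fpqc torsor under `𝔾ₐ` has sections over every affine scheme. -/
theorem hasSectionOver_spec {X : Over S} (a : AlgGrp.Action (Red.Ga S) X)
    (h : NonAbH1.IsTorsorFor Scheme.fpqcPrecoverage a) {R : CommRingCat.{u}} (f : Spec R ⟶ S) :
    NonAbH1.HasSectionOver X f := by
  haveI hXa : IsAffineHom X.hom := TorsorDesc.of_isTorsorFor @IsAffineHom a h isAffineHom_Ga
  haveI hXf : Flat X.hom := TorsorDesc.of_isTorsorFor @Flat a h flat_Ga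
  haveI hXs : Surjective X.hom := TorsorDesc.of_isTorsorFor @Surjective a h surjective_Ga
  haveI : IsAffine (pullback X.hom f) := isAffine_of_isAffineHom (pullback.snd X.hom f)
  let P := pullback X.hom f
  let e := P.isoSpec
  let φ : R ⟶ Γ(P, ⊤) := Spec.preimage (e.inv ≫ pullback.snd X.hom f)
  have hφ : Spec.map φ = e.inv ≫ pullback.snd X.hom f := Spec.map_preimage _
  have hff : φ.hom.FaithfullyFlat := (flat_and_surjective_SpecMap_iff φ).mp
    (by rw [hφ]; exact ⟨inferInstance, inferInstance⟩)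
  let B : Type u := ↑Γ(P, ⊤)
  letI : Algebra (↑R) B := φ.hom.toAlgebra
  haveI : Module.FaithfullyFlat (↑R) B := hff
  let T0 : Over S := Over.mk (Spec.map φ ≫ f)
  let x₀ : T0 ⟶ X := Over.homMk (e.inv ≫ pullback.fst X.hom f) (by
    show (e.inv ≫ pullback.fst X.hom f) ≫ X.hom = Spec.map φ ≫ f
    rw [hφ, Category.assoc, Category.assoc, pullback.condition])
  let iL : Γ(P, ⊤) ⟶ CommRingCat.of (B ⊗[R] B) :=
    CommRingCat.ofHom (Algebra.TensorProduct.includeLeft : B →ₐ[R] B ⊗[R] B).toRingHom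
  let iR : Γ(P, ⊤) ⟶ CommRingCat.of (B ⊗[R] B) :=
    CommRingCat.ofHom (Algebra.TensorProduct.includeRight : B →ₐ[R] B ⊗[R] B).toRingHom
  have hLR : φ ≫ iL = φ ≫ iR := by
    ext r
    exact ((Algebra.TensorProduct.includeLeft : B →ₐ[R] B ⊗[R] B).commutes r).trans
      ((Algebra.TensorProduct.includeRight : B →ₐ[R] B ⊗[R] B).commutes r).symm
  let T2 : Over S := Over.mk (Spec.map (φ ≫ iL) ≫ f)
  let pL : T2 ⟶ T0 := Over.homMk (Spec.map iL) (by
    show Spec.map iL ≫ Spec.map φ ≫ f = Spec.map (φ ≫ iL) ≫ f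
    rw [Spec.map_comp, Category.assoc])
  let pR : T2 ⟶ T0 := Over.homMk (Spec.map iR) (by
    show Spec.map iR ≫ Spec.map φ ≫ f = Spec.map (φ ≫ iL) ≫ f
    rw [hLR, Spec.map_comp, Category.assoc])
  let c0 : T2 ⟶ Red.Ga S := div h.1 (pL ≫ x₀) (pR ≫ x₀)
  let c : B ⊗[R] B := val c0
  -- the three maps to the triple product
  let j23 : CommRingCat.of (B ⊗[R] B) ⟶ CommRingCat.of (B ⊗[R] (B ⊗[R] B)) := CommRingCat.ofHom
    (Algebra.TensorProduct.includeRight : B ⊗[R] B →ₐ[R] B ⊗[R] (B ⊗[R] B)).toRingHom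
  let j13 : CommRingCat.of (B ⊗[R] B) ⟶ CommRingCat.of (B ⊗[R] (B ⊗[R] B)) := CommRingCat.ofHom
    (Algebra.TensorProduct.map (AlgHom.id R B)
      (Algebra.TensorProduct.includeRight : B →ₐ[R] B ⊗[R] B)).toRingHom
  let j12 : CommRingCat.of (B ⊗[R] B) ⟶ CommRingCat.of (B ⊗[R] (B ⊗[R] B)) := CommRingCat.ofHom
    (Algebra.TensorProduct.map (AlgHom.id R B)
      (Algebra.TensorProduct.includeLeft : B →ₐ[R] B ⊗[R] B)).toRingHom
  have hR2 : iR ≫ j12 = iL ≫ j23 := by
    ext b
    rfl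
  have hR3 : iR ≫ j13 = iR ≫ j23 := by
    ext b
    rfl
  have hL1 : iL ≫ j12 = iL ≫ j13 := by
    ext b
    show Algebra.TensorProduct.map (AlgHom.id R B) _ (b ⊗ₜ[R] (1 : B)) =
      Algebra.TensorProduct.map (AlgHom.id R B) _ (b ⊗ₜ[R] (1 : B))
    simp [Algebra.TensorProduct.one_def]
  have ec : φ ≫ iL ≫ j12 = φ ≫ iL ≫ j23 := by rw [← hR2, ← reassoc_of% hLR]
  let T3 : Over S := Over.mk (Spec.map (φ ≫ iL ≫ j12) ≫ f)
  have hw : ∀ j : CommRingCat.of (B ⊗[R] B) ⟶ CommRingCat.of (B ⊗[R] (B ⊗[R] B)),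
      φ ≫ iL ≫ j = φ ≫ iL ≫ j12 → Spec.map j ≫ Spec.map (φ ≫ iL) ≫ f = Spec.map (φ ≫ iL ≫ j12) ≫ f :=
    fun j hj => by rw [← hj]; simp only [Spec.map_comp, Category.assoc]
  let q12 : T3 ⟶ T2 := Over.homMk (Spec.map j12) (hw _ rfl)
  let q13 : T3 ⟶ T2 := Over.homMk (Spec.map j13) (hw _ (by rw [hL1]))
  let q23 : T3 ⟶ T2 := Over.homMk (Spec.map j23) (hw _ ec.symm)
  have hp2 : q12 ≫ pR = q23 ≫ pL := by
    apply Over.OverMorphism.ext
    show Spec.map j12 ≫ Spec.map iR = Spec.map j23 ≫ Spec.map iL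
    rw [← Spec.map_comp, ← Spec.map_comp, hR2]
  have hp3 : q13 ≫ pR = q23 ≫ pR := by
    apply Over.OverMorphism.ext
    show Spec.map j13 ≫ Spec.map iR = Spec.map j23 ≫ Spec.map iR
    rw [← Spec.map_comp, ← Spec.map_comp, hR3]
  have hp1 : q12 ≫ pL = q13 ≫ pL := by
    apply Over.OverMorphism.ext
    show Spec.map j12 ≫ Spec.map iL = Spec.map j13 ≫ Spec.map iL
    rw [← Spec.map_comp, ← Spec.map_comp, hL1]
  have hcoc : (q12 ≫ c0) * (q23 ≫ c0) = q13 ≫ c0 := by
    simp only [c0, comp_div]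
    rw [reassoc_of% hp1, reassoc_of% hp2, reassoc_of% hp3, div_mul_div]
  have hval : val (q12 ≫ c0) + val (q23 ≫ c0) = val (q13 ≫ c0) := by rw [← val_mul, hcoc]
  rw [val_comp j12 q12 rfl, val_comp j13 q13 rfl, val_comp j23 q23 rfl] at hval
  obtain ⟨b, hb⟩ := exists_of_cocycle R B c (by
    change j23 c - j13 c + j12 c = 0
    rw [← hval]
    abel)
  obtain ⟨g, hg⟩ := val_surjective (Spec.map φ ≫ f) b
  let y : T0 ⟶ X := act a g x₀
  have hy : pL ≫ y = pR ≫ y := by
    have e1 : pL ≫ x₀ = act a c0 (pR ≫ x₀) := (act_div h.1 _ _).symm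
    have e2 : (pL ≫ g) * c0 = pR ≫ g := by
      apply val_injective
      rw [val_mul, val_comp iL pL rfl, val_comp iR pR rfl, hg]
      show iL b + c = iR b
      rw [← hb]
      exact add_sub_cancel _ _
    simp only [y, comp_act]
    rw [e1, act_act, e2]
  haveI : Flat (Spec.map φ) := by rw [hφ]; infer_instance
  haveI : Surjective (Spec.map φ) := by rw [hφ]; infer_instance
  have hcov : SchDescent.IsCover (fun _ : PUnit.{1} => Spec.map φ) := SchDescent.isCover_singleton (Spec.map φ)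
  obtain ⟨t, ht, -⟩ := SchDescent.existsUnique_glue hcov (fun _ : PUnit.{1} => y.left) fun _ _ T p q hpq => by
    have hpq' : p ≫ Spec.map (CommRingCat.ofHom (algebraMap R B)) = q ≫ Spec.map (CommRingCat.ofHom (algebraMap R B)) := hpq
    let l := pullback.lift p q hpq' ≫ (pullbackSpecIso R B B).hom
    have hl1 : l ≫ Spec.map iL = p := by
      simp only [l, Category.assoc, iL]
      erw [pullbackSpecIso_hom_fst, pullback.lift_fst]
    have hl2 : l ≫ Spec.map iR = q := by
      simp only [l, Category.assoc, iR]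
      erw [pullbackSpecIso_hom_snd, pullback.lift_snd]
    rw [← hl1, ← hl2, Category.assoc, Category.assoc]
    exact congrArg (l ≫ ·) congr(CommaMorphism.left $hy)
  refine ⟨t, SchDescent.hom_ext hcov fun _ => ?_⟩
  rw [reassoc_of% (ht PUnit.unit)]
  exact Over.w y

/-- An fpqc torsor under `𝔾ₐ` is a torsor for the Zariski topology. -/
theorem isTorsorFor_zariski {X : Over S} (a : AlgGrp.Action (Red.Ga S) X)
    (h : NonAbH1.IsTorsorFor Scheme.fpqcPrecoverage a) :
    NonAbH1.IsTorsorFor Scheme.zariskiPrecoverage a := by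
  refine ⟨h.1, Presieve.ofArrows S.affineCover.X S.affineCover.f, S.affineCover.mem₀, ?_⟩
  rintro S' f ⟨i⟩
  obtain ⟨s, hs⟩ := hasSectionOver_spec a h ((S.affineCover.X i).isoSpec.inv ≫ S.affineCover.f i)
  exact ⟨(S.affineCover.X i).isoSpec.hom ≫ s, by rw [Category.assoc, hs, Iso.hom_inv_id_assoc]⟩

end Groth.Agent.GaTors
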