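import Groth.Agent.GaTors.Basic
import Groth.Agent.WeilAff.MultFlat
import Groth.Prelude.Def_GmPts

/-!
# Torsors under the multiplicative group are locally trivial (Hilbert 90)
-/

set_option autoImplicit false
set_option linter.style.haveILetI false
set_option backward.isDefEq.respectTransparency false
set_option backward.isDefEq.respectTransparency.types false
set_option synthInstance.maxHeartbeats 400000
set_option maxHeartbeats 1000000

noncomputable section

open AlgebraicGeometry CategoryTheory CategoryTheory.Limits MonoidalCategory CartesianMonoidalCategory MonObj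
open scoped TensorProduct

namespace Groth.Agent.GaTors

universe u

open TorsorDesc

section Alg

variable (R A : Type u) [CommRing R] [CommRing A] [Algebra R A] [Module.Flat R A]

/-- Semi-invariant elements of a multiplicative cocycle generate the unit ideal. -/
theorem span_semiInvariant_eq_top (c : A ⊗[R] A) (hc : IsUnit c)
    (h : Algebra.TensorProduct.map (AlgHom.id R A) (Algebra.TensorProduct.includeLeft : A →ₐ[R] A ⊗[R] A) c *
        (Algebra.TensorProduct.includeRight : A ⊗[R] A →ₐ[R] A ⊗[R] (A ⊗[R] A)) c =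
      Algebra.TensorProduct.map (AlgHom.id R A) (Algebra.TensorProduct.includeRight : A →ₐ[R] A ⊗[R] A) c) :
    Ideal.span {m : A | (1 : A) ⊗ₜ[R] m = c * (m ⊗ₜ[R] (1 : A))} = ⊤ := by
  let iL := (Algebra.TensorProduct.includeLeft : A →ₐ[R] A ⊗[R] A)
  let iR := (Algebra.TensorProduct.includeRight : A →ₐ[R] A ⊗[R] A)
  let d : A →ₗ[R] A ⊗[R] A := iR.toLinearMap - LinearMap.mulLeft R c ∘ₗ iL.toLinearMap
  have hex := Module.Flat.lTensor_exact A (LinearMap.exact_subtype_ker_map d)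
  have e1 : ∀ z : A ⊗[R] A, LinearMap.lTensor A d z =
      Algebra.TensorProduct.map (AlgHom.id R A) iR z -
        (Algebra.TensorProduct.includeRight : A ⊗[R] A →ₐ[R] A ⊗[R] (A ⊗[R] A)) c *
          Algebra.TensorProduct.map (AlgHom.id R A) iL z := fun z => by
    induction z using TensorProduct.induction_on with
    | zero => simp
    | tmul a b => simp [d, iL, iR, TensorProduct.tmul_sub]
    | add x y hx hy => simp only [map_add, hx, hy, mul_add]; abel
  obtain ⟨w, hw⟩ := (hex c).mp (by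
    rw [e1, ← h, mul_comm]
    exact sub_self _)
  let mu : A ⊗[R] A →ₐ[R] A := Algebra.TensorProduct.lmul' R
  let mu3 : A ⊗[R] (A ⊗[R] A) →ₐ[R] A := mu.comp (Algebra.TensorProduct.map (AlgHom.id R A) mu)
  have hmu : mu c = 1 := by
    have a1 : ∀ z, mu3 (Algebra.TensorProduct.map (AlgHom.id R A) iL z) = mu z := fun z => by
      induction z using TensorProduct.induction_on with
      | zero => simp
      | tmul a b => simp [mu3, mu, iL]
      | add x y hx hy => simp only [map_add, hx, hy]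
    have a2 : ∀ z, mu3 (Algebra.TensorProduct.map (AlgHom.id R A) iR z) = mu z := fun z => by
      induction z using TensorProduct.induction_on with
      | zero => simp
      | tmul a b => simp [mu3, mu, iR]
      | add x y hx hy => simp only [map_add, hx, hy]
    have a3 : ∀ z, mu3 ((Algebra.TensorProduct.includeRight : A ⊗[R] A →ₐ[R] A ⊗[R] (A ⊗[R] A)) z) = mu z :=
      fun z => by simp [mu3, mu]
    have := congrArg mu3 h
    rw [map_mul, a1, a2, a3] at this
    exact (hc.map mu).mul_eq_left.mp this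
  rw [Ideal.eq_top_iff_one]
  suffices hs : mu c ∈ Ideal.span {m : A | (1 : A) ⊗ₜ[R] m = c * (m ⊗ₜ[R] (1 : A))} by rwa [hmu] at hs
  rw [show mu c = mu (LinearMap.lTensor A (LinearMap.ker d).subtype w) from congrArg mu hw.symm]
  clear hw
  induction w using TensorProduct.induction_on with
  | zero => simp
  | tmul a m =>
    simp only [LinearMap.lTensor_tmul, Submodule.coe_subtype, mu, Algebra.TensorProduct.lmul'_apply_tmul]
    refine Ideal.mul_mem_left _ _ (Ideal.subset_span ?_)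
    exact sub_eq_zero.mp (LinearMap.mem_ker.mp m.2)
  | add x y hx hy => rw [map_add, map_add]; exact add_mem hx hy

end Alg

variable {S : Scheme.{u}}

/-- The coordinate of a point of `𝔾ₘ` with values in a spectrum. -/
def gval {A : CommRingCat.{u}} {h : Spec A ⟶ S} (x : Over.mk h ⟶ Red.Gm S) : A :=
  (Scheme.ΓSpecIso A).hom (Red.gmFn x)

theorem gval_mul {A : CommRingCat.{u}} {h : Spec A ⟶ S} (x y : Over.mk h ⟶ Red.Gm S) :
    gval (x * y) = gval x * gval y := by
  unfold gval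
  rw [GmPts.gmFn_mul]
  exact map_mul _ _ _

theorem gval_comp {A A' : CommRingCat.{u}} {h : Spec A ⟶ S} {h' : Spec A' ⟶ S} (ψ : A ⟶ A')
    (w : Over.mk h' ⟶ Over.mk h) (hw : w.left = Spec.map ψ) (x : Over.mk h ⟶ Red.Gm S) :
    gval (w ≫ x) = ψ (gval x) := by
  unfold gval
  rw [GmPts.gmFn_comp, hw]
  exact congr($(Scheme.ΓSpecIso_naturality ψ) (Red.gmFn x))

theorem isUnit_gval {A : CommRingCat.{u}} {h : Spec A ⟶ S} (x : Over.mk h ⟶ Red.Gm S) : IsUnit (gval x) :=
  (GmPts.isUnit_gmFn x).map (Scheme.ΓSpecIso A).hom.hom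

/-- Evaluation of ring elements at a point with values in a scheme. -/
def ev {A : CommRingCat.{u}} {T : Scheme.{u}} (l : T ⟶ Spec A) : A ⟶ Γ(T, ⊤) := (Scheme.ΓSpecIso A).inv ≫ l.appTop

theorem ev_SpecMap {A A' : CommRingCat.{u}} {T : Scheme.{u}} (l : T ⟶ Spec A') (ψ : A ⟶ A') :
    ev (l ≫ Spec.map ψ) = ψ ≫ ev l := by
  unfold ev
  rw [Scheme.Hom.comp_appTop, ← Category.assoc, ← Scheme.ΓSpecIso_inv_naturality, Category.assoc]

theorem ev_gval {A : CommRingCat.{u}} {h : Spec A ⟶ S} {T : Over S} (l : T ⟶ Over.mk h)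
    (x : Over.mk h ⟶ Red.Gm S) : ev l.left (gval x) = Red.gmFn (l ≫ x) := by
  rw [GmPts.gmFn_comp]
  unfold ev gval
  rw [CategoryTheory.comp_apply, ← CategoryTheory.comp_apply _ (Scheme.ΓSpecIso A).inv, Iso.hom_inv_id]
  rfl

theorem surjective_Gm : Surjective (Red.Gm S).hom := by
  have h : η[Red.Gm S].left ≫ (Red.Gm S).hom = 𝟙 S := Over.w η[Red.Gm S]
  refine ⟨fun s => ⟨η[Red.Gm S].left s, ?_⟩⟩
  rw [← Scheme.Hom.comp_apply, h]
  rfl

theorem isAffineHom_Gm : IsAffineHom (Red.Gm S).hom := by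
  refine MorphismProperty.pullback_snd (P := @IsAffineHom) _ _ ?_
  haveI : IsAffine (Red.diag.{u} (ULift.{u} ℤ) ℤ).left := isAffine_Spec _
  exact isAffineHom_of_isAffine _

/-- An fpqc torsor under `𝔾ₘ` has sections near every point of an affine scheme. -/
theorem exists_section_near {X : Over S} (a : AlgGrp.Action (Red.Gm S) X)
    (h : NonAbH1.IsTorsorFor Scheme.fpqcPrecoverage a) {R : CommRingCat.{u}} (f : Spec R ⟶ S) (s : Spec R) :
    ∃ V : (Spec R).Opens, s ∈ V ∧ NonAbH1.HasSectionOver X (V.ι ≫ f) := by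
  haveI hXa : IsAffineHom X.hom := TorsorDesc.of_isTorsorFor @IsAffineHom a h isAffineHom_Gm
  haveI hXf : Flat X.hom := TorsorDesc.of_isTorsorFor @Flat a h (WeilAff.flat_DS S ℤ)
  haveI hXs : Surjective X.hom := TorsorDesc.of_isTorsorFor @Surjective a h surjective_Gm
  haveI : IsAffine (pullback X.hom f) := isAffine_of_isAffineHom (pullback.snd X.hom f)
  let P := pullback X.hom f
  let e := P.isoSpec
  let φ : R ⟶ Γ(P, ⊤) := Spec.preimage (e.inv ≫ pullback.snd X.hom f)
  have hφ : Spec.map φ = e.inv ≫ pullback.snd X.hom f := Spec.map_preimage _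
  have hff : φ.hom.FaithfullyFlat := (flat_and_surjective_SpecMap_iff φ).mp
    (by rw [hφ]; exact ⟨inferInstance, inferInstance⟩)
  let B : Type u := ↑Γ(P, ⊤)
  letI : Algebra (↑R) B := φ.hom.toAlgebra
  haveI : Module.FaithfullyFlat (↑R) B := hff
  haveI : Flat (Spec.map φ) := by rw [hφ]; infer_instance
  haveI : Surjective (Spec.map φ) := by rw [hφ]; infer_instance
  let T0 : Over S := Over.mk (Spec.map φ ≫ f)
  let x₀ : T0 ⟶ X := Over.homMk (e.inv ≫ pullback.fst X.hom f) (by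
    show (e.inv ≫ pullback.fst X.hom f) ≫ X.hom = Spec.map φ ≫ f
    rw [hφ, Category.assoc, Category.assoc, pullback.condition])
  let iL : Γ(P, ⊤) ⟶ CommRingCat.of (B ⊗[R] B) :=
    CommRingCat.ofHom (Algebra.TensorProduct.includeLeft : B →ₐ[R] B ⊗[R] B).toRingHom
  let iR : Γ(P, ⊤) ⟶ CommRingCat.of (B ⊗[R] B) :=
    CommRingCat.ofHom (Algebra.TensorProduct.includeRight : B →ₐ[R] B ⊗[R] B).toRingHom
  have hLR : φ ≫ iL = φ ≫ iR := by
    ext r
    exact ((Algebra.TensorProduct.includeLeft : B →ₐ[R] B ⊗[R] B).commutes r).trans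
      ((Algebra.TensorProduct.includeRight : B →ₐ[R] B ⊗[R] B).commutes r).symm
  let T2 : Over S := Over.mk (Spec.map (φ ≫ iL) ≫ f)
  let pL : T2 ⟶ T0 := Over.homMk (Spec.map iL) (by
    show Spec.map iL ≫ Spec.map φ ≫ f = Spec.map (φ ≫ iL) ≫ f
    rw [Spec.map_comp, Category.assoc])
  let pR : T2 ⟶ T0 := Over.homMk (Spec.map iR) (by
    show Spec.map iR ≫ Spec.map φ ≫ f = Spec.map (φ ≫ iL) ≫ f
    rw [hLR, Spec.map_comp, Category.assoc])
  let c0 : T2 ⟶ Red.Gm S := div h.1 (pL ≫ x₀) (pR ≫ x₀)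
  let c : B ⊗[R] B := gval c0
  let j23 : CommRingCat.of (B ⊗[R] B) ⟶ CommRingCat.of (B ⊗[R] (B ⊗[R] B)) := CommRingCat.ofHom
    (Algebra.TensorProduct.includeRight : B ⊗[R] B →ₐ[R] B ⊗[R] (B ⊗[R] B)).toRingHom
  let j13 : CommRingCat.of (B ⊗[R] B) ⟶ CommRingCat.of (B ⊗[R] (B ⊗[R] B)) := CommRingCat.ofHom
    (Algebra.TensorProduct.map (AlgHom.id R B)
      (Algebra.TensorProduct.includeRight : B →ₐ[R] B ⊗[R] B)).toRingHom
  let j12 : CommRingCat.of (B ⊗[R] B) ⟶ CommRingCat.of (B ⊗[R] (B ⊗[R] B)) := CommRingCat.ofHom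
    (Algebra.TensorProduct.map (AlgHom.id R B)
      (Algebra.TensorProduct.includeLeft : B →ₐ[R] B ⊗[R] B)).toRingHom
  have hR2 : iR ≫ j12 = iL ≫ j23 := by
    ext b
    rfl
  have hR3 : iR ≫ j13 = iR ≫ j23 := by
    ext b
    rfl
  have hL1 : iL ≫ j12 = iL ≫ j13 := by
    ext b
    show Algebra.TensorProduct.map (AlgHom.id R B) _ (b ⊗ₜ[R] (1 : B)) =
      Algebra.TensorProduct.map (AlgHom.id R B) _ (b ⊗ₜ[R] (1 : B))
    simp
  have ec : φ ≫ iL ≫ j12 = φ ≫ iL ≫ j23 := by rw [← hR2, ← reassoc_of% hLR]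
  let T3 : Over S := Over.mk (Spec.map (φ ≫ iL ≫ j12) ≫ f)
  have hw : ∀ j : CommRingCat.of (B ⊗[R] B) ⟶ CommRingCat.of (B ⊗[R] (B ⊗[R] B)),
      φ ≫ iL ≫ j = φ ≫ iL ≫ j12 → Spec.map j ≫ Spec.map (φ ≫ iL) ≫ f = Spec.map (φ ≫ iL ≫ j12) ≫ f :=
    fun j hj => by rw [← hj]; simp only [Spec.map_comp, Category.assoc]
  let q12 : T3 ⟶ T2 := Over.homMk (Spec.map j12) (hw _ rfl)
  let q13 : T3 ⟶ T2 := Over.homMk (Spec.map j13) (hw _ (by rw [hL1]))
  let q23 : T3 ⟶ T2 := Over.homMk (Spec.map j23) (hw _ ec.symm)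
  have hp2 : q12 ≫ pR = q23 ≫ pL := by
    apply Over.OverMorphism.ext
    show Spec.map j12 ≫ Spec.map iR = Spec.map j23 ≫ Spec.map iL
    rw [← Spec.map_comp, ← Spec.map_comp, hR2]
  have hp3 : q13 ≫ pR = q23 ≫ pR := by
    apply Over.OverMorphism.ext
    show Spec.map j13 ≫ Spec.map iR = Spec.map j23 ≫ Spec.map iR
    rw [← Spec.map_comp, ← Spec.map_comp, hR3]
  have hp1 : q12 ≫ pL = q13 ≫ pL := by
    apply Over.OverMorphism.ext
    show Spec.map j12 ≫ Spec.map iL = Spec.map j13 ≫ Spec.map iL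
    rw [← Spec.map_comp, ← Spec.map_comp, hL1]
  have hcoc : (q12 ≫ c0) * (q23 ≫ c0) = q13 ≫ c0 := by
    simp only [c0, comp_div]
    rw [reassoc_of% hp1, reassoc_of% hp2, reassoc_of% hp3, div_mul_div]
  have hval : gval (q12 ≫ c0) * gval (q23 ≫ c0) = gval (q13 ≫ c0) := by rw [← gval_mul, hcoc]
  rw [gval_comp j12 q12 rfl, gval_comp j13 q13 rfl, gval_comp j23 q23 rfl] at hval
  have hcu : IsUnit c := isUnit_gval c0
  have hspan := span_semiInvariant_eq_top R B c hcu hval
  obtain ⟨q₀, hq₀⟩ := (Spec.map φ).surjective s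
  obtain ⟨m, hm, hmq⟩ : ∃ m : B, (1 : B) ⊗ₜ[R] m = c * (m ⊗ₜ[R] (1 : B)) ∧ m ∉ q₀.asIdeal := by
    by_contra! hcon
    exact q₀.isPrime.ne_top (top_le_iff.mp (hspan ▸ Ideal.span_le.mpr fun m hm => hcon m hm))
  -- the non-vanishing locus of `m` is saturated
  let O : (Spec (Γ(P, ⊤))).Opens := PrimeSpectrum.basicOpen (m : Γ(P, ⊤))
  have hmem : ∀ q : Spec (Γ(P, ⊤)), q ∈ O ↔ m ∉ q.asIdeal := fun q => PrimeSpectrum.mem_basicOpen _ _
  have hsat : ∀ q q' : Spec (Γ(P, ⊤)), Spec.map φ q = Spec.map φ q' → q ∈ O → q' ∈ O := by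
    intro q q' hqq hq
    obtain ⟨z, hz1, hz2⟩ := Scheme.Pullback.exists_preimage_pullback
      (f := Spec.map (CommRingCat.ofHom (algebraMap R B))) (g := Spec.map (CommRingCat.ofHom (algebraMap R B)))
      q q' hqq
    let Q := (pullbackSpecIso R B B).hom z
    have h1 : Spec.map iL Q = q := by
      rw [← hz1, ← Scheme.Hom.comp_apply]
      erw [pullbackSpecIso_hom_fst]
      rfl
    have h2 : Spec.map iR Q = q' := by
      rw [← hz2, ← Scheme.Hom.comp_apply]
      erw [pullbackSpecIso_hom_snd]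
      rfl
    rw [hmem] at hq ⊢
    rw [← h1] at hq
    rw [← h2]
    change m ⊗ₜ[R] (1 : B) ∉ Q.asIdeal at hq
    change (1 : B) ⊗ₜ[R] m ∉ Q.asIdeal
    rw [hm, Q.isPrime.mul_mem_iff_mem_or_mem]
    rintro (hcQ | hmQ)
    · exact Q.isPrime.ne_top (Ideal.eq_top_of_isUnit_mem _ hcQ hcu)
    · exact hq hmQ
  have hpre : Spec.map φ ⁻¹' (Spec.map φ '' (O : Set (Spec (Γ(P, ⊤))))) = O := by
    refine Set.Subset.antisymm ?_ (Set.subset_preimage_image _ _)
    rintro q' ⟨q, hq, hqq⟩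
    exact hsat q q' hqq hq
  let V : (Spec R).Opens := ⟨Spec.map φ '' (O : Set (Spec (Γ(P, ⊤)))),
    (Flat.isQuotientMap_of_surjective (Spec.map φ)).isOpen_preimage.mp (by rw [hpre]; exact O.2)⟩
  refine ⟨V, ⟨q₀, (hmem q₀).mpr hmq, hq₀⟩, ?_⟩
  let Z : Over S := Over.mk (pullback.fst (Spec.map φ) V.ι ≫ Spec.map φ ≫ f)
  let io : Z ⟶ T0 := Over.homMk (pullback.fst (Spec.map φ) V.ι) rfl
  have hrange : ∀ w : Z.left, io.left w ∈ O := by
    intro w
    show io.left w ∈ (O : Set (Spec (Γ(P, ⊤))))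
    rw [← hpre]
    show Spec.map φ (pullback.fst (Spec.map φ) V.ι w) ∈ V
    rw [← Scheme.Hom.comp_apply, pullback.condition, Scheme.Hom.comp_apply]
    exact (pullback.snd (Spec.map φ) V.ι w).2
  have hu : IsUnit (ev io.left (m : Γ(P, ⊤))) := by
    refine RingedSpace.isUnit_of_isUnit_germ Z.left.toRingedSpace ⊤ _ fun w _ => ?_
    refine (Scheme.mem_basicOpen_top (X := Z.left) _ w).mp ?_
    show w ∈ Z.left.basicOpen (io.left.appTop _)
    rw [← Scheme.preimage_basicOpen_top]; erw [basicOpen_eq_of_affine]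
    exact hrange w
  let g : Z ⟶ Red.Gm S := GmPts.ptOfUnit hu.unit
  have hg : Red.gmFn g = ev io.left (m : Γ(P, ⊤)) := GmPts.gmFn_ptOfUnit _
  let y : Z ⟶ X := act a g (io ≫ x₀)
  have hcov : SchDescent.IsCover (fun _ : PUnit.{1} => pullback.snd (Spec.map φ) V.ι) :=
    SchDescent.isCover_singleton _
  obtain ⟨t, ht, -⟩ := SchDescent.existsUnique_glue hcov (fun _ => y.left) fun _ _ T p q hpq => by
    let T' : Over S := Over.mk (p ≫ Z.hom)
    have hpq2 : (p ≫ io.left) ≫ Spec.map φ = (q ≫ io.left) ≫ Spec.map φ := by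
      show (p ≫ pullback.fst _ _) ≫ Spec.map φ = (q ≫ pullback.fst _ _) ≫ Spec.map φ
      simp only [Category.assoc, pullback.condition, reassoc_of% hpq]
    let p' : T' ⟶ Z := Over.homMk p rfl
    let q' : T' ⟶ Z := Over.homMk q (by
      show q ≫ pullback.fst _ _ ≫ Spec.map φ ≫ f = p ≫ pullback.fst _ _ ≫ Spec.map φ ≫ f
      simp only [← Category.assoc] at hpq2 ⊢
      exact congrArg (· ≫ f) hpq2.symm)
    have hpq3 : (p ≫ io.left) ≫ Spec.map (CommRingCat.ofHom (algebraMap R B)) =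
        (q ≫ io.left) ≫ Spec.map (CommRingCat.ofHom (algebraMap R B)) := hpq2
    let l0 : T'.left ⟶ T2.left := pullback.lift _ _ hpq3 ≫ (pullbackSpecIso R B B).hom
    have hl1 : l0 ≫ Spec.map iL = p ≫ io.left := by
      simp only [l0, Category.assoc, iL]
      erw [pullbackSpecIso_hom_fst, pullback.lift_fst]
    have hl2 : l0 ≫ Spec.map iR = q ≫ io.left := by
      simp only [l0, Category.assoc, iR]
      erw [pullbackSpecIso_hom_snd, pullback.lift_snd]
    let l : T' ⟶ T2 := Over.homMk l0 (by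
      show l0 ≫ Spec.map (φ ≫ iL) ≫ f = p ≫ pullback.fst _ _ ≫ Spec.map φ ≫ f
      have := congrArg (· ≫ Spec.map φ ≫ f) hl1
      simp only [Category.assoc] at this
      rw [Spec.map_comp, Category.assoc]
      exact this)
    have el : l ≫ pL = p' ≫ io := Over.OverMorphism.ext hl1
    have er : l ≫ pR = q' ≫ io := Over.OverMorphism.ext hl2
    have e1 : p' ≫ io ≫ x₀ = act a (l ≫ c0) (q' ≫ io ≫ x₀) := by
      rw [← reassoc_of% el, ← reassoc_of% er, ← comp_act]
      exact congrArg (l ≫ ·) (act_div h.1 _ _).symm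
    have e2 : (p' ≫ g) * (l ≫ c0) = q' ≫ g := by
      apply GmPts.gmFn_injective
      show Red.gmFn ((p' ≫ g) * (l ≫ c0)) = Red.gmFn (q' ≫ g)
      rw [GmPts.gmFn_mul, ← ev_gval, GmPts.gmFn_comp, GmPts.gmFn_comp, hg]
      have hp : p.appTop (ev io.left (m : Γ(P, ⊤))) = ev l.left (iL m) := by
        show p.appTop _ = (iL ≫ ev l0) m
        rw [← ev_SpecMap, hl1]
        rfl
      have hq : q.appTop (ev io.left (m : Γ(P, ⊤))) = ev l.left (iR m) := by
        show q.appTop _ = (iR ≫ ev l0) m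
        rw [← ev_SpecMap, hl2]
        rfl
      change p.appTop _ * _ = q.appTop _
      rw [hp, hq]
      refine ((map_mul (ev l.left).hom _ _).symm.trans ?_)
      refine congrArg (ev l.left).hom ?_
      show (m ⊗ₜ[R] (1 : B)) * c = (1 : B) ⊗ₜ[R] m
      rw [hm, mul_comm]
    have e3 : p' ≫ y = q' ≫ y := by
      simp only [y, comp_act]
      rw [e1, act_act, e2]
    exact congr(CommaMorphism.left $e3)
  refine ⟨t, SchDescent.hom_ext hcov fun _ => ?_⟩
  rw [reassoc_of% (ht PUnit.unit), ← pullback.condition_assoc]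
  exact Over.w y

/-- An fpqc torsor under `𝔾ₘ` is a torsor for the Zariski topology. -/
theorem isTorsorFor_zariski_mul {X : Over S} (a : AlgGrp.Action (Red.Gm S) X)
    (h : NonAbH1.IsTorsorFor Scheme.fpqcPrecoverage a) :
    NonAbH1.IsTorsorFor Scheme.zariskiPrecoverage a := by
  have key : ∀ i : S.affineCover.I₀, ∀ w : S.affineCover.X i, ∃ V : (S.affineCover.X i).Opens, w ∈ V ∧
      NonAbH1.HasSectionOver X (V.ι ≫ S.affineCover.f i) := fun i w =>
    exists_section_near a h (S.affineCover.f i) w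
  choose V hV hsec using key
  choose i w hw using fun t : S => S.affineCover.exists_eq t
  refine ⟨h.1, Presieve.ofArrows (fun t => (V (i t) (w t) : Scheme.{u}))
    (fun t => (V (i t) (w t)).ι ≫ S.affineCover.f (i t)), ?_, ?_⟩
  · refine (Scheme.ofArrows_mem_precoverage_iff (P := @IsOpenImmersion)).mpr ⟨fun t => ⟨t, ⟨w t, hV _ _⟩, hw t⟩,
      fun t => ?_⟩
    exact IsOpenImmersion.comp _ _
  · rintro S' f ⟨t⟩
    exact hsec _ _

end Groth.Agent.GaTors
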